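import Mathlib
import Cfsg.Agent.H322.RIM.Inv
import Cfsg.Agent.H672.RM.Triple

/-!
# S4816, case A, layer (a): nondegenerate commutator forms and the push-up (helper322)

* `exists_over`: characters over a character of `L₀`;
* `unique_of_nondeg`: `Z` central, `⁅L, L⁆ ≤ Z ≤ L`, the commutator form through `φ` nondegenerate on `L / Z`: exactly one
  character over `φ`, it vanishes off `Z` and is `H`-invariant;
* `exists_inv_step`: a central section above an invariant character.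
-/

set_option autoImplicit false
set_option linter.style.haveILetI false
set_option linter.unusedSectionVars false
open Cfsg

namespace Cfsg.Agent.H322.RIM

open Cfsg.Agent.Characters.Core Cfsg.Agent.Characters.Clifford Cfsg.Agent.H672
open Cfsg.Agent.H672.RM
open scoped ComplexConjugate commutatorElement

universe u

section exi

variable {H : Type u} [Group H] [Finite H] {L₀ L : Subgroup H} [h₀ : L₀.Normal] [hL : L.Normal] (h01 : L₀ ≤ L)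

theorem exists_over {ψ₀ : L₀ → ℂ} (hψ₀ : IsIrrCharacter L₀ ψ₀) :
    ∃ ψ : L → ℂ, IsIrrCharacter L ψ ∧ Over (Subgroup.inclusion h01) ψ ψ₀ := by
  obtain ⟨ψ, h1, h2⟩ := exists_over_subtype (L₀.subgroupOf L) (dn_irr h01 hψ₀)
  exact ⟨ψ, h1, (dn_over h01).1 h2⟩

/-- A central section above an invariant character of a perfect group. -/
theorem exists_inv_step (hperf : commutator H = ⊤) (hc : ∀ a ∈ L, ∀ h : H, ⁅a, h⁆ ∈ L₀) {ψ₀ : L₀ → ℂ}
    (hψ₀ : IsIrrCharacter L₀ ψ₀) (hinv : inertia L₀ ψ₀ = ⊤) :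
    ∃ ψ : L → ℂ, IsIrrCharacter L ψ ∧ Over (Subgroup.inclusion h01) ψ ψ₀ ∧ inertia L ψ = ⊤ := by
  obtain ⟨ψ, h1, h2⟩ := exists_over h01 hψ₀
  exact ⟨ψ, h1, h2, inv_of_central h01 hperf hc hψ₀ hinv h1 h2⟩

end exi

section nd

variable {H : Type u} [Group H] [Finite H] {Z L : Subgroup H} [hL : L.Normal] (hZL : Z ≤ L)

/-- **(a2)** The nondegenerate case. -/
theorem unique_of_nondeg (hZ : Z ≤ Subgroup.center H) (φ : Z →* ℂˣ) (hab : ∀ a ∈ L, ∀ b ∈ L, ⁅a, b⁆ ∈ Z)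
    (hnd : ∀ a ∈ L, a ∉ Z → ∃ b ∈ L, ∀ hb : ⁅b, a⁆ ∈ Z, φ ⟨⁅b, a⁆, hb⟩ ≠ 1) :
    ∃ ψ : L → ℂ, IsIrrCharacter L ψ ∧ (∀ (z : H) (hz : z ∈ Z), ψ ⟨z, hZL hz⟩ = ψ 1 * φ ⟨z, hz⟩) ∧
      (∀ a : L, (a : H) ∉ Z → ψ a = 0) ∧ inertia L ψ = ⊤ ∧
      ∀ ψ' : L → ℂ, IsIrrCharacter L ψ' → (∀ (z : H) (hz : z ∈ Z), ψ' ⟨z, hZL hz⟩ = ψ' 1 * φ ⟨z, hz⟩) → ψ' = ψ := by
  classical
  letI := Fintype.ofFinite L
  haveI : Z.Normal := ⟨fun z hz g => by
    have h1 := Subgroup.mem_center_iff.1 (hZ hz) g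
    rwa [h1, mul_inv_cancel_right]⟩
  have hj : ∀ n : Z, Subgroup.inclusion hZL n ∈ Subgroup.center L := by
    intro n
    rw [Subgroup.mem_center_iff]
    intro g
    exact Subtype.ext (Subgroup.mem_center_iff.1 (hZ n.2) (g : H))
  have hoff : ∀ ψ : L → ℂ, IsIrrCharacter L ψ → (∀ (z : H) (hz : z ∈ Z), ψ ⟨z, hZL hz⟩ = ψ 1 * φ ⟨z, hz⟩) →
      (∀ (x : L) (z : H) (hz : z ∈ Z), ψ (x * ⟨z, hZL hz⟩) = ψ x * φ ⟨z, hz⟩) ∧ ∀ a : L, (a : H) ∉ Z → ψ a = 0 := by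
    intro ψ hψ h
    have hov : Over (Subgroup.inclusion hZL) ψ (lf φ) :=
      (over_lin_iff (Subgroup.inclusion hZL) hj hψ φ).2 fun n => h n n.2
    have hmul : ∀ (x : L) (z : H) (hz : z ∈ Z), ψ (x * ⟨z, hZL hz⟩) = ψ x * φ ⟨z, hz⟩ := by
      intro x z hz
      letI := Fintype.ofFinite Z
      exact Cfsg.Agent.H595.Central.over_central (Subgroup.inclusion hZL) hj ⟨ψ, hψ⟩ φ ((over_iff _ _ _).1 hov) x ⟨z, hz⟩
    refine ⟨hmul, fun a ha => ?_⟩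
    obtain ⟨b, hb, hne⟩ := hnd a a.2 ha
    have hc : ⁅b, (a : H)⁆ ∈ Z := hab b hb a a.2
    have h1 := isIrr_isClassFunction hψ a ⟨b, hb⟩
    have h2 : (⟨b, hb⟩ : L) * a * (⟨b, hb⟩ : L)⁻¹ = a * ⟨⁅b, (a : H)⁆, hZL hc⟩ := by
      apply Subtype.ext
      change b * (a : H) * b⁻¹ = (a : H) * ⁅b, (a : H)⁆
      have h3 := Subgroup.mem_center_iff.1 (hZ hc) (a : H)
      rw [h3, commutatorElement_def]
      group
    rw [h2, hmul _ _ hc] at h1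
    have h4 : (φ ⟨⁅b, (a : H)⁆, hc⟩ : ℂ) ≠ 1 := by
      intro h5
      apply hne hc
      ext
      rw [Units.val_one]
      exact h5
    have h6 : ψ a * ((φ ⟨⁅b, (a : H)⁆, hc⟩ : ℂ) - 1) = 0 := by rw [mul_sub, mul_one, h1, sub_self]
    exact (mul_eq_zero.1 h6).resolve_right (sub_ne_zero.2 h4)
  have huniq : ∀ ψ ψ' : L → ℂ, IsIrrCharacter L ψ → IsIrrCharacter L ψ' →
      (∀ (z : H) (hz : z ∈ Z), ψ ⟨z, hZL hz⟩ = ψ 1 * φ ⟨z, hz⟩) →
      (∀ (z : H) (hz : z ∈ Z), ψ' ⟨z, hZL hz⟩ = ψ' 1 * φ ⟨z, hz⟩) → ψ' = ψ := by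
    intro ψ ψ' hψ hψ' h h'
    have h0 := isIrr_apply_one_ne_zero hψ
    have h0' := isIrr_apply_one_ne_zero hψ'
    have e : ψ' = (ψ' 1 / ψ 1) • ψ := by
      funext a
      simp only [Pi.smul_apply, smul_eq_mul]
      by_cases ha : (a : H) ∈ Z
      · have h1 := h a ha
        have h2 := h' a ha
        have h3 : (⟨(a : H), hZL ha⟩ : L) = a := rfl
        rw [h3] at h1 h2
        rw [h1, h2]
        field_simp
      · rw [(hoff ψ hψ h).2 a ha, (hoff ψ' hψ' h').2 a ha, mul_zero]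
    by_contra hne
    have h1 := classInner_irr_ne hψ' hψ hne
    rw [e, classInner_smul_left, classInner_irr_self hψ, mul_one] at h1
    exact (div_ne_zero h0' h0) h1
  obtain ⟨ψ, hψ, hov⟩ := exists_over (L₀ := Z) (L := L) hZL (isIrr_lf φ)
  have h1 : ∀ (z : H) (hz : z ∈ Z), ψ ⟨z, hZL hz⟩ = ψ 1 * φ ⟨z, hz⟩ := fun z hz =>
    (over_lin_iff (Subgroup.inclusion hZL) hj hψ φ).1 hov ⟨z, hz⟩
  refine ⟨ψ, hψ, h1, (hoff ψ hψ h1).2, ?_, fun ψ' hψ' h' => huniq ψ ψ' hψ hψ' h1 h'⟩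
  rw [eq_top_iff]
  intro x _
  rw [mem_inertia]
  refine huniq ψ _ hψ (isIrr_comp (MulAut.conjNormal x : MulAut L).toMonoidHom
    (MulAut.conjNormal x : MulAut L).surjective hψ) h1 fun z hz => ?_
  have h2 : (MulAut.conjNormal x : MulAut L) ⟨z, hZL hz⟩ = ⟨z, hZL hz⟩ := by
    apply Subtype.ext
    rw [MulAut.conjNormal_apply]
    have h3 := Subgroup.mem_center_iff.1 (hZ hz) x
    change x * z * x⁻¹ = z
    rw [h3, mul_inv_cancel_right]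
  change ψ ((MulAut.conjNormal x : MulAut L) ⟨z, hZL hz⟩) = ψ ((MulAut.conjNormal x : MulAut L) 1) * _
  rw [h2, map_one]
  exact h1 z hz

end nd

end Cfsg.Agent.H322.RIM
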